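import Mathlib

/-!
Abstract Shintani descent: elementary identities for an automorphism `σ` of a group and `g = a σ(a)⁻¹`.
-/

set_option autoImplicit false

namespace CfsgLib.Shintani

variable {X : Type*} [Group X]

theorem mem_fixed {f : MulAut X} {x : X} :
    x ∈ (MulEquiv.toMonoidHom f).eqLocus (MonoidHom.id X) ↔ f x = x := Iff.rfl

theorem pow_apply_succ (σ : MulAut X) (i : ℕ) (x : X) : (σ ^ (i + 1)) x = (σ ^ i) (σ x) := by
  rw [pow_succ]; rfl

theorem pow_apply_succ' (σ : MulAut X) (i : ℕ) (x : X) : (σ ^ (i + 1)) x = σ ((σ ^ i) x) := by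
  rw [pow_succ']; rfl

theorem pow_comm_apply (σ : MulAut X) (i : ℕ) (x : X) : (σ ^ i) (σ x) = σ ((σ ^ i) x) := by
  rw [← pow_apply_succ, pow_apply_succ']

theorem pow_fixed (σ : MulAut X) (i : ℕ) {x : X} (h : σ x = x) : (σ ^ i) x = x := by
  induction i with
  | zero => simp
  | succ i ih => rw [pow_apply_succ, h, ih]

/-- The norm of `a σ(a)⁻¹` telescopes. -/
theorem norm_telescope (σ : MulAut X) (a : X) (d : ℕ) :
    ((List.range d).map (fun i => (σ ^ i) (a * (σ a)⁻¹))).prod = a * ((σ ^ d) a)⁻¹ := by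
  induction d with
  | zero => simp
  | succ d ih =>
    rw [List.range_succ, List.map_append, List.prod_append, ih]
    simp [pow_apply_succ, mul_assoc]

/-- The Shintani image `σᵉ(a)⁻¹ a` is fixed by `σ`. -/
theorem image_fixed (σ : MulAut X) (e : ℕ) (a : X) (h : (σ ^ e) (a * (σ a)⁻¹) = a * (σ a)⁻¹) :
    σ (((σ ^ e) a)⁻¹ * a) = ((σ ^ e) a)⁻¹ * a := by
  rw [map_mul, map_inv, pow_comm_apply] at h
  calc σ (((σ ^ e) a)⁻¹ * a) = (σ ((σ ^ e) a))⁻¹ * σ a := by simp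
    _ = ((σ ^ e) a)⁻¹ * (((σ ^ e) a) * (σ ((σ ^ e) a))⁻¹) * σ a := by group
    _ = ((σ ^ e) a)⁻¹ * (a * (σ a)⁻¹) * σ a := by rw [h]
    _ = ((σ ^ e) a)⁻¹ * a := by group

theorem pow_apply_self (σ : MulAut X) (e : ℕ) (a : X) :
    (σ ^ e) a = a * (((σ ^ e) a)⁻¹ * a)⁻¹ := by group

end CfsgLib.Shintani
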